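import Mathlib
import Groth.Agent.TFCurvLib.ExtOne

/-!
# Lattice-point bounds for the higher double point `x² = yⁿ`
-/

set_option autoImplicit false

universe u

namespace Groth.Agent.H4HDP

open MvPowerSeries

variable {k : Type u} [Field k]

local notation "P" => MvPowerSeries (Fin 3) k

/-- exponent vector -/
noncomputable def ex (a b c : ℕ) : Fin 3 →₀ ℕ :=
  Finsupp.single 0 a + Finsupp.single 1 b + Finsupp.single 2 c

@[simp] lemma ex_apply0 (a b c : ℕ) : ex a b c 0 = a := by simp [ex]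
@[simp] lemma ex_apply1 (a b c : ℕ) : ex a b c 1 = b := by simp [ex]
@[simp] lemma ex_apply2 (a b c : ℕ) : ex a b c 2 = c := by simp [ex]

lemma ex_self (d : Fin 3 →₀ ℕ) : ex (d 0) (d 1) (d 2) = d := by
  ext i; fin_cases i <;> simp

lemma ex_inj {a b c a' b' c' : ℕ} (h : ex a b c = ex a' b' c') : a = a' ∧ b = b' ∧ c = c' := by
  refine ⟨?_, ?_, ?_⟩
  · simpa using DFunLike.congr_fun h 0
  · simpa using DFunLike.congr_fun h 1
  · simpa using DFunLike.congr_fun h 2

lemma ex_le {a b c a' b' c' : ℕ} : ex a b c ≤ ex a' b' c' ↔ a ≤ a' ∧ b ≤ b' ∧ c ≤ c' :=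
  ⟨fun h => ⟨by simpa using h 0, by simpa using h 1, by simpa using h 2⟩,
    fun ⟨h1, h2, h3⟩ i => by fin_cases i <;> simpa⟩

lemma ex_sub (a b c a' b' c' : ℕ) : ex a b c - ex a' b' c' = ex (a - a') (b - b') (c - c') := by
  ext i; fin_cases i <;> simp

lemma monomial_ex (a b c : ℕ) :
    monomial (ex a b c) (1 : k) = (X 0 ^ a * X 1 ^ b * X 2 ^ c : P) := by
  simp [X_pow_eq, monomial_mul_monomial, ex]

lemma mem_span_of_support {σ : Type*} (G : Finset (σ →₀ ℕ)) (f : MvPowerSeries σ k)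
    (hf : ∀ d, coeff d f ≠ 0 → ∃ g ∈ G, g ≤ d) :
    f ∈ Ideal.span ((fun g => monomial g (1 : k)) '' G) := by
  classical
  let sel : (σ →₀ ℕ) → Option (σ →₀ ℕ) :=
    fun d => if h : ∃ g ∈ G, g ≤ d then some h.choose else none
  let hh : (σ →₀ ℕ) → MvPowerSeries σ k :=
    fun g d => if sel (g + d) = some g then coeff (g + d) f else 0
  have hh_eq : ∀ g d, g ≤ d → coeff (d - g) (hh g) = if sel d = some g then coeff d f else 0 := by
    intro g d hgd
    show (if sel (g + (d - g)) = some g then coeff (g + (d - g)) f else 0) = _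
    rw [add_tsub_cancel_of_le hgd]
  have hsum : f = ∑ g ∈ G, monomial g (1 : k) * hh g := by
    ext d
    rw [map_sum]
    simp only [coeff_monomial_mul, one_mul]
    by_cases hd : ∃ g ∈ G, g ≤ d
    · have hsel : sel d = some hd.choose := dif_pos hd
      rw [Finset.sum_eq_single hd.choose]
      · rw [if_pos hd.choose_spec.2, hh_eq _ _ hd.choose_spec.2, if_pos hsel]
      · intro g _ hg
        by_cases hgd : g ≤ d
        · rw [if_pos hgd, hh_eq _ _ hgd, hsel, if_neg fun h => hg (Option.some_injective _ h).symm]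
        · rw [if_neg hgd]
      · exact fun h => (h hd.choose_spec.1).elim
    · rw [show coeff d f = 0 from by_contra fun h => hd (hf d h), Finset.sum_eq_zero]
      exact fun g hg => if_neg fun hgd => hd ⟨g, hg, hgd⟩
  rw [hsum]
  exact sum_mem fun g hg => Ideal.mul_mem_right _ _ (Ideal.subset_span ⟨g, hg, rfl⟩)

/-- weight -/
def wt (n : ℕ) (d : Fin 3 →₀ ℕ) : ℕ := n * d 0 + 2 * d 1 + d 2

lemma wt_add (n : ℕ) (d e : Fin 3 →₀ ℕ) : wt n (d + e) = wt n d + wt n e := by
  simp only [wt, Finsupp.add_apply]; ring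

/-- weight ideal -/
def W (k : Type u) [Field k] (n s : ℕ) : Ideal (MvPowerSeries (Fin 3) k) where
  carrier := {f | ∀ d, wt n d < s → coeff d f = 0}
  add_mem' := fun hf hg d hd => by rw [map_add, hf d hd, hg d hd, add_zero]
  zero_mem' := fun d _ => map_zero _
  smul_mem' := fun g f hf d hd => by
    classical
    rw [smul_eq_mul, coeff_mul]
    refine Finset.sum_eq_zero fun p hp => ?_
    rw [Finset.HasAntidiagonal.mem_antidiagonal] at hp
    rw [hf p.2 ?_, mul_zero]
    rw [← hp, wt_add] at hd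
    omega

lemma W_mul_le (n s t : ℕ) : W k n s * W k n t ≤ W k n (s + t) := by
  classical
  refine Ideal.mul_le.2 fun f hf g hg d hd => ?_
  rw [coeff_mul]
  refine Finset.sum_eq_zero fun p hp => ?_
  rw [Finset.HasAntidiagonal.mem_antidiagonal] at hp
  rw [← hp, wt_add] at hd
  by_cases h : wt n p.1 < s
  · rw [hf _ h, zero_mul]
  · rw [hg p.2 (by omega), mul_zero]

lemma monomial_mem_W {n s : ℕ} {d : Fin 3 →₀ ℕ} (h : s ≤ wt n d) :
    monomial d (1 : k) ∈ W k n s := by
  classical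
  intro e he
  rw [coeff_monomial, if_neg]
  rintro rfl
  omega

/-- the monomial ideal -/
noncomputable def M (k : Type u) [Field k] : Ideal (MvPowerSeries (Fin 3) k) :=
  Ideal.span {(X 0 ^ 2 : MvPowerSeries (Fin 3) k), X 0 * X 1, X 1 ^ 2, X 0 * X 2, X 1 * X 2 ^ 2, X 2 ^ 4}

lemma M_le_W {n : ℕ} (hn : 3 ≤ n) : M k ≤ W k n 4 := by
  have key : ∀ a b c, 4 ≤ n * a + 2 * b + c → (X 0 ^ a * X 1 ^ b * X 2 ^ c : P) ∈ W k n 4 := by
    intro a b c h
    rw [← monomial_ex]
    exact monomial_mem_W (by simpa [wt] using h)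
  refine Ideal.span_le.2 ?_
  intro x hx
  rcases hx with rfl | rfl | rfl | rfl | rfl | rfl
  · simpa using key 2 0 0 (by omega)
  · simpa using key 1 1 0 (by omega)
  · simpa using key 0 2 0 (by omega)
  · simpa using key 1 0 1 (by omega)
  · simpa using key 0 1 2 (by omega)
  · simpa using key 0 0 4 (by omega)

lemma M_pow_le_W {n : ℕ} (hn : 3 ≤ n) : ∀ m : ℕ, M k ^ m ≤ W k n (4 * m) := by
  intro m
  induction m with
  | zero => exact fun f _ d hd => absurd hd (by omega)
  | succ m ih =>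
    rw [pow_succ, Nat.mul_succ]
    exact (Ideal.mul_mono ih (M_le_W hn)).trans (W_mul_le n _ _)

lemma yt_mem (m b c : ℕ) (h : 4 * m ≤ 2 * b + c) : (X 1 ^ b * X 2 ^ c : P) ∈ M k ^ m := by
  have h1 : (X 1 ^ 2 : P) ∈ M k := Ideal.subset_span (by simp)
  have h2 : (X 1 * X 2 ^ 2 : P) ∈ M k := Ideal.subset_span (by simp)
  have h3 : (X 2 ^ 4 : P) ∈ M k := Ideal.subset_span (by simp)
  by_cases hb : 2 * m ≤ b
  · rw [show b = 2 * m + (b - 2 * m) by omega, pow_add, pow_mul]
    exact Ideal.mul_mem_right _ _ (Ideal.mul_mem_right _ _ (Ideal.pow_mem_pow h1 m))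
  · obtain ⟨i, j, hj, rfl⟩ : ∃ i j, j < 2 ∧ b = 2 * i + j := ⟨b / 2, b % 2, by omega, by omega⟩
    obtain ⟨l, rfl⟩ : ∃ l, m = i + j + l := ⟨m - (i + j), by omega⟩
    obtain ⟨r, rfl⟩ : ∃ r, c = 2 * j + 4 * l + r := ⟨c - (2 * j + 4 * l), by omega⟩
    rw [show (X 1 ^ (2 * i + j) * X 2 ^ (2 * j + 4 * l + r) : P)
      = (X 1 ^ 2) ^ i * (X 1 * X 2 ^ 2) ^ j * (X 2 ^ 4) ^ l * X 2 ^ r by ring]
    refine Ideal.mul_mem_right _ _ ?_
    rw [pow_add (M k), pow_add (M k)]
    exact Ideal.mul_mem_mul (Ideal.mul_mem_mul (Ideal.pow_mem_pow h1 i) (Ideal.pow_mem_pow h2 j))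
      (Ideal.pow_mem_pow h3 l)

/-- `ρ = x² - yⁿ`. -/
noncomputable def rho (k : Type u) [Field k] (n : ℕ) : MvPowerSeries (Fin 3) k := X 0 ^ 2 - X 1 ^ n

/-- kernel of `P → A/Iᵐ` -/
noncomputable def K (k : Type u) [Field k] (n m : ℕ) : Ideal (MvPowerSeries (Fin 3) k) :=
  Ideal.span {rho k n} ⊔ M k ^ m

/-- counting -/
def cnt (s : ℕ) : ℕ := ∑ b ∈ Finset.range s, (s - 2 * b)

lemma cnt_add_two (s : ℕ) : cnt (s + 2) = s + 2 + cnt s := by
  rw [cnt, Finset.sum_range_succ', Finset.sum_range_succ,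
    Finset.sum_congr rfl (fun b _ => show s + 2 - 2 * (b + 1) = s - 2 * b by omega)]
  have : s + 2 - 2 * (s + 1) = 0 := by omega
  rw [cnt, this]
  omega

lemma cnt_bounds : ∀ s, s ^ 2 ≤ 4 * cnt s ∧ 4 * cnt s ≤ (s + 1) ^ 2
  | 0 => by simp [cnt]
  | 1 => by simp [cnt]
  | s + 2 => by
    obtain ⟨h1, h2⟩ := cnt_bounds s
    rw [cnt_add_two]
    constructor <;> nlinarith

/-- lattice points under a line -/
def Lpts (s : ℕ) : Finset (ℕ × ℕ) :=
  (Finset.range s).biUnion fun b => ({b} : Finset ℕ) ×ˢ Finset.range (s - 2 * b)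

lemma mem_Lpts {s b c : ℕ} : (b, c) ∈ Lpts s ↔ 2 * b + c < s := by
  simp only [Lpts, Finset.mem_biUnion, Finset.mem_range, Finset.mem_product, Finset.mem_singleton]
  constructor
  · rintro ⟨_, _, rfl, h⟩; omega
  · intro h; exact ⟨b, by omega, rfl, by omega⟩

lemma card_Lpts (s : ℕ) : (Lpts s).card = cnt s := by
  rw [Lpts, Finset.card_biUnion, cnt]
  · exact Finset.sum_congr rfl fun b _ => by simp
  · intro b _ b' _ hbb'
    rw [Function.onFun, Finset.disjoint_left]
    intro x hx hx'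
    simp only [Finset.mem_product, Finset.mem_singleton] at hx hx'
    exact hbb' (hx.1.symm.trans hx'.1)

/-- index sets -/
def idx (s₀ s₁ : ℕ) : Finset (ℕ × ℕ × ℕ) :=
  ({0} : Finset ℕ) ×ˢ Lpts s₀ ∪ ({1} : Finset ℕ) ×ˢ Lpts s₁

lemma mem_idx {s₀ s₁ e b c : ℕ} :
    (e, b, c) ∈ idx s₀ s₁ ↔ (e = 0 ∧ 2 * b + c < s₀) ∨ (e = 1 ∧ 2 * b + c < s₁) := by
  simp [idx, mem_Lpts, eq_comm, and_comm]

lemma card_idx (s₀ s₁ : ℕ) : (idx s₀ s₁).card = cnt s₀ + cnt s₁ := by
  rw [idx, Finset.card_union_of_disjoint, Finset.card_product, Finset.card_product]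
  · simp [card_Lpts]
  · rw [Finset.disjoint_left]
    intro x hx hx'
    simp only [Finset.mem_product, Finset.mem_singleton] at hx hx'
    omega

/-- the monomial of an index -/
noncomputable def mon (k : Type u) [Field k] (i : ℕ × ℕ × ℕ) : MvPowerSeries (Fin 3) k :=
  X 0 ^ i.1 * X 1 ^ i.2.1 * X 2 ^ i.2.2

/-- the spanning submodule -/
noncomputable def Sp (k : Type u) [Field k] (n m : ℕ) : Submodule k (MvPowerSeries (Fin 3) k) :=
  Submodule.span k (mon k '' (idx (4 * m) (4 * m) : Set (ℕ × ℕ × ℕ))) ⊔ (K k n m).restrictScalars k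

lemma monomial_mem_aux (n m a : ℕ) : ∀ b c, (X 0 ^ a * X 1 ^ b * X 2 ^ c : P) ∈ Sp k n m := by
  induction a using Nat.strong_induction_on with
  | _ a ih =>
    intro b c
    by_cases ha : 2 ≤ a
    · obtain ⟨a', rfl⟩ : ∃ a', a = a' + 2 := ⟨a - 2, by omega⟩
      rw [show (X 0 ^ (a' + 2) * X 1 ^ b * X 2 ^ c : P) =
        rho k n * (X 0 ^ a' * X 1 ^ b * X 2 ^ c) + X 0 ^ a' * X 1 ^ (b + n) * X 2 ^ c by rw [rho]; ring]
      exact add_mem (Submodule.mem_sup_right (Ideal.mem_sup_left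
        (Ideal.mul_mem_right _ _ (Ideal.mem_span_singleton_self _)))) (ih a' (by omega) _ _)
    · by_cases hbc : 2 * b + c < 4 * m
      · exact Submodule.mem_sup_left (Submodule.subset_span
          ⟨(a, b, c), Finset.mem_coe.2 (mem_idx.2 (by omega)), rfl⟩)
      · refine Submodule.mem_sup_right (Ideal.mem_sup_right ?_)
        rw [mul_assoc]
        exact Ideal.mul_mem_left _ _ (yt_mem m b c (by omega))

lemma top_le_Sp (n m : ℕ) : ⊤ ≤ Sp k n m := by
  classical
  intro f _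
  let N := 4 * m
  let box : Finset (Fin 3 →₀ ℕ) :=
    (Finset.range N ×ˢ Finset.range N ×ˢ Finset.range N).image fun i => ex i.1 i.2.1 i.2.2
  let tr : P := ∑ d ∈ box, coeff d f • monomial d (1 : k)
  rw [← sub_add_cancel f tr]
  refine add_mem (Submodule.mem_sup_right (Ideal.mem_sup_right ?_))
    (sum_mem fun d hd => Submodule.smul_mem _ _ ?_)
  · refine Ideal.span_le.2 ?_
      (mem_span_of_support ({ex N 0 0, ex 0 N 0, ex 0 0 N} : Finset _) (f - tr) fun d hd => ?_)
    · simp only [Finset.coe_insert, Finset.coe_singleton, Set.image_insert_eq, Set.image_singleton,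
        Set.insert_subset_iff, Set.singleton_subset_iff, monomial_ex, pow_zero, one_mul, mul_one, N]
      refine ⟨?_, ?_, ?_⟩
      · rw [show 4 * m = 2 * m + 2 * m by omega, pow_add, pow_mul]
        exact Ideal.mul_mem_right _ _ (Ideal.pow_mem_pow (Ideal.subset_span (by simp)) m)
      · simpa using yt_mem (k := k) m (4 * m) 0 (by omega)
      · simpa using yt_mem (k := k) m 0 (4 * m) (by omega)
    · by_contra hcon
      apply hd
      simp only [Finset.mem_insert, Finset.mem_singleton, exists_eq_or_imp, exists_eq_left, not_or] at hcon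
      rw [← ex_self d] at hcon
      simp only [ex_le, Nat.zero_le, and_true, true_and, not_le] at hcon
      have hbox : d ∈ box := Finset.mem_image.2 ⟨(d 0, d 1, d 2), by
        simp only [Finset.mem_product, Finset.mem_range]; omega, ex_self d⟩
      simp [tr, map_sum, coeff_monomial, Finset.sum_ite_eq, hbox]
  · obtain ⟨i, -, rfl⟩ := Finset.mem_image.1 hd
    rw [monomial_ex]
    exact monomial_mem_aux n m _ _ _

/-- detecting functionals -/
noncomputable def Phi (k : Type u) [Field k] (n : ℕ) (T : Finset (ℕ × ℕ × ℕ)) :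
    MvPowerSeries (Fin 3) k →ₗ[k] (T → k) :=
  LinearMap.pi fun i => ∑ j ∈ Finset.range (i.1.2.1 + 1),
    if n * j ≤ i.1.2.1 then coeff (ex (i.1.1 + 2 * j) (i.1.2.1 - n * j) i.1.2.2) else 0

lemma Phi_apply (n : ℕ) (T : Finset (ℕ × ℕ × ℕ)) (f : P) (i : T) :
    Phi k n T f i = ∑ j ∈ Finset.range (i.1.2.1 + 1),
      if n * j ≤ i.1.2.1 then coeff (ex (i.1.1 + 2 * j) (i.1.2.1 - n * j) i.1.2.2) f else 0 := by
  simp only [Phi, LinearMap.pi_apply, LinearMap.coe_sum, Finset.sum_apply]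
  refine Finset.sum_congr rfl fun j _ => ?_
  split_ifs <;> simp

lemma Phi_rho_mul {n : ℕ} (hn : 3 ≤ n) (T : Finset (ℕ × ℕ × ℕ)) (hT : ∀ i ∈ T, i.1 < 2) (g : P) :
    Phi k n T (rho k n * g) = 0 := by
  classical
  funext ⟨⟨e, b, c⟩, hi⟩
  have he : e < 2 := hT _ hi
  rw [Phi_apply, Pi.zero_apply]
  show (∑ j ∈ Finset.range (b + 1),
      if n * j ≤ b then coeff (ex (e + 2 * j) (b - n * j) c) (rho k n * g) else 0) = 0
  let T' : ℕ → k := fun j =>
    if n * j + n ≤ b then coeff (ex (e + 2 * j) (b - (n * j + n)) c) g else 0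
  have hx : (X 0 ^ 2 : P) = monomial (ex 2 0 0) 1 := by simp [monomial_ex]
  have hy : (X 1 ^ n : P) = monomial (ex 0 n 0) 1 := by simp [monomial_ex]
  have hcoeff : ∀ a' b', coeff (ex a' b' c) (rho k n * g) =
      (if 2 ≤ a' then coeff (ex (a' - 2) b' c) g else 0) - (if n ≤ b' then coeff (ex a' (b' - n) c) g else 0) := by
    intro a' b'
    rw [rho, hx, hy, sub_mul, map_sub, coeff_monomial_mul, coeff_monomial_mul]
    simp [ex_le, ex_sub]
  have key : ∀ j, (if n * j ≤ b then coeff (ex (e + 2 * j) (b - n * j) c) (rho k n * g) else 0)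
      = (if j = 0 then 0 else T' (j - 1)) - T' j := by
    intro j
    rw [hcoeff]
    rcases j with _ | j
    · simp only [Nat.mul_zero, Nat.zero_le, if_true, add_zero, Nat.sub_zero, zero_add, T']
      rw [if_neg (by omega : ¬ 2 ≤ e)]
    · simp only [T', Nat.succ_ne_zero, if_false, Nat.add_sub_cancel, Nat.mul_succ]
      by_cases h : n * j + n ≤ b
      · rw [if_pos h, if_pos h, if_pos (by omega : 2 ≤ e + (2 * j + 2)),
          show e + (2 * j + 2) - 2 = e + 2 * j by omega]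
        congr 1
        by_cases h' : n * j + n + n ≤ b
        · rw [if_pos h', if_pos (by omega : n ≤ b - (n * j + n)), Nat.sub_sub]
        · rw [if_neg h', if_neg (by omega : ¬ n ≤ b - (n * j + n))]
      · rw [if_neg h, if_neg h, if_neg (by omega : ¬ n * j + n + n ≤ b), sub_zero]
  refine (Finset.sum_congr rfl fun j _ => key j).trans ?_
  rw [Finset.sum_sub_distrib, Finset.sum_range_succ', Finset.sum_range_succ T']
  simp only [if_true, Nat.succ_ne_zero, if_false, Nat.add_sub_cancel, add_zero]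
  have : T' b = 0 := if_neg (by nlinarith)
  rw [this, add_zero, sub_self]

lemma Phi_eq_zero_of_W {n s : ℕ} (T : Finset (ℕ × ℕ × ℕ))
    (hT : ∀ i ∈ T, n * i.1 + 2 * i.2.1 + i.2.2 < s) (f : P) (hf : f ∈ W k n s) :
    Phi k n T f = 0 := by
  funext ⟨⟨e, b, c⟩, hi⟩
  rw [Phi_apply, Pi.zero_apply]
  refine Finset.sum_eq_zero fun j _ => ?_
  split_ifs with h
  · apply hf
    have h1 : n * e + 2 * b + c < s := hT _ hi
    have h2 : n * j ≤ b := h
    show wt n (ex (e + 2 * j) (b - n * j) c) < s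
    simp only [wt, ex_apply0, ex_apply1, ex_apply2, Nat.mul_add]
    have : n * (2 * j) = 2 * (n * j) := by ring
    omega
  · rfl

lemma Phi_surjective {n : ℕ} (T : Finset (ℕ × ℕ × ℕ)) (hT : ∀ i ∈ T, i.1 < 2) :
    Function.Surjective (Phi k n T) := by
  classical
  intro φ
  refine ⟨∑ i : T, φ i • monomial (ex i.1.1 i.1.2.1 i.1.2.2) (1 : k), ?_⟩
  have h1 : ∀ i : T, Phi k n T (monomial (ex i.1.1 i.1.2.1 i.1.2.2) (1 : k)) = Pi.single i 1 := by
    intro i
    funext i'
    rw [Phi_apply, Finset.sum_eq_single 0]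
    · rw [if_pos (by simp), coeff_monomial]
      by_cases h : i' = i
      · subst h; simp
      · rw [Pi.single_eq_of_ne h, if_neg]
        intro he
        obtain ⟨ha, hb, hc⟩ := ex_inj he
        apply h
        apply Subtype.ext
        simp only [Nat.mul_zero, add_zero, Nat.sub_zero] at ha hb
        exact Prod.ext ha (Prod.ext hb hc)
    · intro j _ hj
      split_ifs with h
      · rw [coeff_monomial, if_neg]
        intro he
        obtain ⟨ha, -, -⟩ := ex_inj he
        have := hT _ i.2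
        have := hT _ i'.2
        omega
      · rfl
    · simp
  rw [map_sum]
  simp only [map_smul, h1]
  exact (pi_eq_sum_univ' φ).symm

/-- the length of `A/Iᵐ` is squeezed between functionals and spanning sets -/
lemma length_quot {n : ℕ} (hn : 3 ≤ n) (J : Ideal (P ⧸ Ideal.span {rho k n})) (m : ℕ)
    (hJ : J = (M k ^ m).map (Ideal.Quotient.mk (Ideal.span {rho k n}))) :
    ∃ D : ℕ, Module.length (P ⧸ Ideal.span {rho k n}) ((P ⧸ Ideal.span {rho k n}) ⧸ J) = D ∧
      (∀ T : Finset (ℕ × ℕ × ℕ), (∀ i ∈ T, i.1 < 2) → (∀ f ∈ M k ^ m, Phi k n T f = 0) → T.card ≤ D) ∧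
      (∀ S : Finset P, Sp k n m ≤ Submodule.span k (S : Set P) ⊔ (K k n m).restrictScalars k → D ≤ S.card) := by
  classical
  let ψ : P →ₐ[k] ((P ⧸ Ideal.span {rho k n}) ⧸ J) :=
    (Ideal.Quotient.mkₐ k J).comp (Ideal.Quotient.mkₐ k _)
  have hψs : Function.Surjective ψ := Ideal.Quotient.mk_surjective.comp Ideal.Quotient.mk_surjective
  have hker : ∀ f, ψ f = 0 ↔ f ∈ K k n m := by
    intro f
    show Ideal.Quotient.mk J (Ideal.Quotient.mk _ f) = 0 ↔ _
    rw [Ideal.Quotient.eq_zero_iff_mem, hJ, ← Ideal.mem_comap,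
      Ideal.comap_map_of_surjective _ Ideal.Quotient.mk_surjective, ← RingHom.ker_eq_comap_bot,
      Ideal.mk_ker, sup_comm]
    rfl
  have hspan : ∀ S : Finset P, Sp k n m ≤ Submodule.span k (S : Set P) ⊔ (K k n m).restrictScalars k →
      Submodule.span k ((S.image ψ : Finset _) : Set ((P ⧸ Ideal.span {rho k n}) ⧸ J)) = ⊤ := by
    intro S hS
    rw [eq_top_iff]
    intro z _
    obtain ⟨f, rfl⟩ := hψs z
    obtain ⟨u, hu, v, hv, rfl⟩ := Submodule.mem_sup.1 (hS (top_le_Sp n m (Submodule.mem_top (x := f))))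
    rw [map_add, (hker v).2 hv, add_zero, Finset.coe_image]
    exact Submodule.apply_mem_span_image_of_mem_span ψ.toLinearMap hu
  haveI : Module.Finite k ((P ⧸ Ideal.span {rho k n}) ⧸ J) :=
    ⟨⟨_, hspan ((idx (4 * m) (4 * m)).image (mon k)) (by rw [Finset.coe_image]; exact le_rfl)⟩⟩
  let cc : P →ₐ[k] k :=
    { constantCoeff (σ := Fin 3) (R := k) with
      commutes' := fun r => by simp [MvPowerSeries.algebraMap_apply] }
  have hc0 : ∀ a ∈ Ideal.span {rho k n}, cc a = 0 := by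
    intro a ha
    obtain ⟨g, rfl⟩ := Ideal.mem_span_singleton.1 ha
    show constantCoeff (rho k n * g) = 0
    simp [rho, map_mul, map_sub, map_pow, show n ≠ 0 by omega]
  let χ : (P ⧸ Ideal.span {rho k n}) →ₐ[k] k := Ideal.Quotient.liftₐ _ cc hc0
  have hχ : ∀ a, χ a ≠ 0 → IsUnit a := by
    intro a ha
    obtain ⟨f, rfl⟩ := Ideal.Quotient.mk_surjective a
    refine IsUnit.map (Ideal.Quotient.mk _)
      (MvPowerSeries.isUnit_iff_constantCoeff.2 (isUnit_iff_ne_zero.2 ?_))
    exact ha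
  refine ⟨_, TFCurvLib.length_eq_finrank χ hχ _, fun T hT2 hT => ?_, fun S hS => ?_⟩
  · have hle : LinearMap.ker ψ.toLinearMap ≤ LinearMap.ker (Phi k n T) := by
      intro f hf
      obtain ⟨u, hu, v, hv, rfl⟩ := Submodule.mem_sup.1 ((hker f).1 hf)
      obtain ⟨g, rfl⟩ := Ideal.mem_span_singleton.1 hu
      rw [LinearMap.mem_ker, map_add, Phi_rho_mul hn T hT2, hT v hv, add_zero]
    let e := ψ.toLinearMap.quotKerEquivOfSurjective hψs
    let L := ((LinearMap.ker ψ.toLinearMap).liftQ (Phi k n T) hle).comp e.symm.toLinearMap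
    have hL : Function.Surjective L := by
      intro φ
      obtain ⟨f, hf⟩ := Phi_surjective (k := k) (n := n) T hT2 φ
      exact ⟨e (Submodule.Quotient.mk f), by simp [L, hf]⟩
    have := LinearMap.finrank_le_finrank_of_surjective hL
    simpa [Module.finrank_fintype_fun_eq_card] using this
  · have h := finrank_span_finset_le_card (R := k) (S.image ψ)
    rw [Set.finrank, hspan S hS, finrank_top] at h
    exact h.trans Finset.card_image_le

end Groth.Agent.H4HDP
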